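import Mathlib
import Groth.Agent.Lib.Helper51.StalkBC

/-!
# Points and local rings of `Z ×_k Spec L` over a point `z₀` of `Z` (helper19)

Part A of MULT-GEO for S1941: for `L/k` finite, the points of `Z_L` over `z₀` are the maximal ideals
of `T := 𝒪_{Z,z₀} ⊗[k] L`, with local rings the localizations of `T`.
-/

set_option autoImplicit false
set_option linter.style.haveILetI false
universe u
open CategoryTheory CategoryTheory.Limits AlgebraicGeometry TensorProduct

namespace Groth.Agent.Lib.Helper19.Cyc1941GEO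

open Groth.Agent.Lib.Helper51

section A

variable {k : Type u} [Field k] {Z : Scheme.{u}} (g : Z ⟶ Spec (CommRingCat.of k)) (z₀ : Z)
  [Algebra k (Z.presheaf.stalk z₀)]
  (hψ : Spec.map (CommRingCat.ofHom (algebraMap k (Z.presheaf.stalk z₀))) = Z.fromSpecStalk z₀ ≫ g)
  (L : Type u) [Field L] [Algebra k L]

/-- `Spec (𝒪_{Z,z₀} ⊗[k] L) ⟶ Z_L`. -/
noncomputable def τ : Spec (CommRingCat.of (Z.presheaf.stalk z₀ ⊗[k] L)) ⟶
    pullback g (Spec.map (CommRingCat.ofHom (algebraMap k L))) :=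
  (pullbackSpecIso k (Z.presheaf.stalk z₀) L).inv ≫ stalkBcMap g z₀ hψ L

instance : IsPreimmersion (τ g z₀ hψ L) := by
  unfold τ
  infer_instance

instance : Flat (τ g z₀ hψ L) := by
  unfold τ
  infer_instance

theorem τ_fst : τ g z₀ hψ L ≫ pullback.fst g _ =
    Spec.map (CommRingCat.ofHom (algebraMap (Z.presheaf.stalk z₀) (Z.presheaf.stalk z₀ ⊗[k] L))) ≫
      Z.fromSpecStalk z₀ := by
  unfold τ
  rw [Category.assoc, (isPullback_stalkBcMap g z₀ hψ L).w, ← Category.assoc,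
    pullbackSpecIso_inv_fst']

theorem stalkBcPrime_inv (n : PrimeSpectrum (Z.presheaf.stalk z₀ ⊗[k] L)) :
    stalkBcPrime z₀ L ((pullbackSpecIso k (Z.presheaf.stalk z₀) L).inv n) = n := by
  change (pullbackSpecIso k (Z.presheaf.stalk z₀) L).hom
    ((pullbackSpecIso k (Z.presheaf.stalk z₀) L).inv n) = n
  rw [← Scheme.Hom.comp_apply, Iso.inv_hom_id]
  rfl

theorem τ_apply (n : PrimeSpectrum (Z.presheaf.stalk z₀ ⊗[k] L)) :
    τ g z₀ hψ L n = stalkBcMap g z₀ hψ L ((pullbackSpecIso k (Z.presheaf.stalk z₀) L).inv n) := by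
  unfold τ
  rw [Scheme.Hom.comp_apply]

/-- the local ring at `τ n`. -/
theorem nonempty_stalk_ringEquiv (n : PrimeSpectrum (Z.presheaf.stalk z₀ ⊗[k] L)) :
    Nonempty ((pullback g (Spec.map (CommRingCat.ofHom (algebraMap k L)))).presheaf.stalk
      (τ g z₀ hψ L n) ≃+* Localization.AtPrime n.asIdeal) := by
  have e := stalkBcRingEquiv g z₀ hψ L ((pullbackSpecIso k (Z.presheaf.stalk z₀) L).inv n)
  rw [stalkBcPrime_inv, ← τ_apply] at e
  exact ⟨e⟩

theorem fst_τ_eq_iff [Module.Finite k L] (n : PrimeSpectrum (Z.presheaf.stalk z₀ ⊗[k] L)) :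
    pullback.fst g (Spec.map (CommRingCat.ofHom (algebraMap k L))) (τ g z₀ hψ L n) = z₀ ↔
      n.asIdeal.IsMaximal := by
  rw [τ_apply, fst_stalkBcMap_eq_iff, stalkBcPrime_inv]
  haveI : Algebra.IsIntegral (Z.presheaf.stalk z₀) (Z.presheaf.stalk z₀ ⊗[k] L) :=
    Algebra.IsIntegral.of_finite _ _
  constructor
  · intro h
    have h' : (n.asIdeal.comap (algebraMap (Z.presheaf.stalk z₀)
        (Z.presheaf.stalk z₀ ⊗[k] L))).IsMaximal := by
      change (n.asIdeal.comap Algebra.TensorProduct.includeLeftRingHom).IsMaximal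
      rw [h]
      exact IsLocalRing.maximalIdeal.isMaximal _
    exact Ideal.isMaximal_of_isIntegral_of_isMaximal_comap n.asIdeal h'
  · intro h
    haveI := h
    have h' : (n.asIdeal.comap (algebraMap (Z.presheaf.stalk z₀)
        (Z.presheaf.stalk z₀ ⊗[k] L))).IsMaximal :=
      Ideal.isMaximal_comap_of_isIntegral_of_isMaximal n.asIdeal
    exact IsLocalRing.eq_maximalIdeal h'

theorem exists_τ_eq
    (z : ↥(pullback g (Spec.map (CommRingCat.ofHom (algebraMap k L)))))
    (hz : pullback.fst g (Spec.map (CommRingCat.ofHom (algebraMap k L))) z = z₀) :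
    ∃ n, τ g z₀ hψ L n = z := by
  obtain ⟨w, hw⟩ := exists_stalkBcMap_eq g z₀ hψ L z hz
  refine ⟨stalkBcPrime z₀ L w, ?_⟩
  rw [τ_apply]
  have : (pullbackSpecIso k (Z.presheaf.stalk z₀) L).inv (stalkBcPrime z₀ L w) = w := by
    change (pullbackSpecIso k (Z.presheaf.stalk z₀) L).inv
      ((pullbackSpecIso k (Z.presheaf.stalk z₀) L).hom w) = w
    rw [← Scheme.Hom.comp_apply, Iso.hom_inv_id]
    rfl
  rw [this, hw]

end A

end Groth.Agent.Lib.Helper19.Cyc1941GEO
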