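import Mathlib
import Groth.Agent.Lib.Helper19.Cyc1941.GeoA

/-!
# MULT-GEO part B: the morphism `Spec (A ⊗[k] L) ⟶ Y ×_X X'` (helper19)
-/

set_option autoImplicit false
set_option linter.style.haveILetI false
universe u
open CategoryTheory CategoryTheory.Limits AlgebraicGeometry TensorProduct

namespace Groth.Agent.Lib.Helper19.Cyc1941GEO

open Groth.Agent.Lib.Helper51

section B

variable {X X' Y : Scheme.{u}} (f : Y ⟶ X) (p : X' ⟶ X) (y : Y) (x' : X') (h : f y = p x')

/-- the fibre of `p` over `f y`. -/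
noncomputable abbrev ZZ : Scheme.{u} := p.fiber (f y)

/-- its structure map, typed over `Spec (of k)`. -/
noncomputable def gZ : ZZ f p y ⟶ Spec (CommRingCat.of (X.residueField (f y))) :=
  p.fiberToSpecResidueField (f y)

/-- the point of the fibre over `x'`. -/
noncomputable def z₀ : ↥(ZZ f p y) := (p.fiberHomeo (f y)).symm ⟨x', h.symm⟩

theorem fiberι_z₀ : p.fiberι (f y) (z₀ f p y x' h) = x' :=
  p.fiberι_fiberHomeo_symm (f y) ⟨x', h.symm⟩

noncomputable instance algL : Algebra (X.residueField (f y)) (Y.residueField y) :=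
  (f.residueFieldMap y).hom.toAlgebra

noncomputable instance algA :
    Algebra (X.residueField (f y)) ((ZZ f p y).presheaf.stalk (z₀ f p y x' h)) :=
  (((ZZ f p y).presheaf.germ ⊤ (z₀ f p y x' h) trivial).hom.comp
    (Coh.toGlobal (gZ f p y))).toAlgebra

theorem hψ : Spec.map (CommRingCat.ofHom (algebraMap (X.residueField (f y))
    ((ZZ f p y).presheaf.stalk (z₀ f p y x' h)))) =
    (ZZ f p y).fromSpecStalk (z₀ f p y x' h) ≫ gZ f p y :=
  specMap_stalkMapOf (gZ f p y) (z₀ f p y x' h)

/-- the ring `A`. -/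
abbrev AA : Type u := (ZZ f p y).presheaf.stalk (z₀ f p y x' h)

/-- the ring `T = A ⊗[k] L`. -/
abbrev TT : Type u := AA f p y x' h ⊗[X.residueField (f y)] (Y.residueField y)

theorem isPullback_fiber :
    IsPullback (pullback.map _ _ _ _ (pullback.snd f p) (Spec.map (f.residueFieldMap y)) f
        (IsPullback.of_hasPullback f p).flip.w.symm (by simp))
      ((pullback.fst f p).fiberToSpecResidueField y)
      (p.fiberToSpecResidueField (f y))
      (Spec.map (f.residueFieldMap y)) :=
  isPullback_fiberToSpecResidueField_of_isPullback (IsPullback.of_hasPullback f p).flip y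

/-- `F_y ≅ Z_L`. -/
noncomputable def Ψ : (pullback.fst f p).fiber y ≅
    pullback (gZ f p y) (Spec.map (CommRingCat.ofHom (algebraMap (X.residueField (f y))
      (Y.residueField y)))) :=
  (isPullback_fiber f p y).isoPullback

theorem Ψ_inv_snd : (Ψ f p y).inv ≫ (pullback.fst f p).fiberι y ≫ pullback.snd f p =
    pullback.fst (gZ f p y) _ ≫ p.fiberι (f y) := by
  have h1 : (Ψ f p y).inv ≫ pullback.map _ _ _ _ (pullback.snd f p)
      (Spec.map (f.residueFieldMap y)) f
        (IsPullback.of_hasPullback f p).flip.w.symm (by simp) = pullback.fst (gZ f p y) _ :=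
    (isPullback_fiber f p y).isoPullback_inv_fst
  have h2 : pullback.map _ _ _ _ (pullback.snd f p) (Spec.map (f.residueFieldMap y)) f
        (IsPullback.of_hasPullback f p).flip.w.symm (by simp) ≫ p.fiberι (f y) =
      (pullback.fst f p).fiberι y ≫ pullback.snd f p := pullback.lift_fst _ _ _
  rw [← h2]
  exact (Category.assoc _ _ _).symm.trans (congrArg (· ≫ p.fiberι (f y)) h1)

/-- `Spec T ⟶ P`. -/
noncomputable def ιT : Spec (CommRingCat.of (TT f p y x' h)) ⟶ pullback f p :=
  τ (gZ f p y) (z₀ f p y x' h) (hψ f p y x' h) (Y.residueField y) ≫ (Ψ f p y).inv ≫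
    (pullback.fst f p).fiberι y

instance : IsPreimmersion (ιT f p y x' h) := by
  unfold ιT
  infer_instance

theorem ιT_snd : ιT f p y x' h ≫ pullback.snd f p =
    Spec.map (CommRingCat.ofHom (algebraMap (AA f p y x' h) (TT f p y x' h))) ≫
      (ZZ f p y).fromSpecStalk (z₀ f p y x' h) ≫ p.fiberι (f y) := by
  unfold ιT
  rw [Category.assoc, Category.assoc, Ψ_inv_snd, ← Category.assoc, τ_fst, Category.assoc]

theorem fst_ιT (n : PrimeSpectrum (TT f p y x' h)) : pullback.fst f p (ιT f p y x' h n) = y := by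
  have : ιT f p y x' h n ∈ Set.range ((pullback.fst f p).fiberι y) := by
    unfold ιT
    rw [Scheme.Hom.comp_apply, Scheme.Hom.comp_apply]
    exact ⟨_, rfl⟩
  rw [Scheme.Hom.range_fiberι] at this
  exact this

theorem snd_ιT (n : PrimeSpectrum (TT f p y x' h)) :
    pullback.snd f p (ιT f p y x' h n) = p.fiberι (f y) (pullback.fst (gZ f p y) _
      (τ (gZ f p y) (z₀ f p y x' h) (hψ f p y x' h) (Y.residueField y) n)) := by
  have h1 := congrArg (fun φ : _ ⟶ X' => φ
    (τ (gZ f p y) (z₀ f p y x' h) (hψ f p y x' h) (Y.residueField y) n)) (Ψ_inv_snd f p y)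
  simp only [Scheme.Hom.comp_apply] at h1
  unfold ιT
  simp only [Scheme.Hom.comp_apply]
  exact h1

theorem snd_ιT_eq_iff [Module.Finite (X.residueField (f y)) (Y.residueField y)]
    (n : PrimeSpectrum (TT f p y x' h)) :
    pullback.snd f p (ιT f p y x' h n) = x' ↔ n.asIdeal.IsMaximal := by
  rw [snd_ιT, ← fst_τ_eq_iff (gZ f p y) (z₀ f p y x' h) (hψ f p y x' h) (Y.residueField y) n]
  constructor
  · intro h1
    apply (p.fiberι (f y)).isEmbedding.injective
    rw [h1, fiberι_z₀]
  · intro h1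
    rw [h1, fiberι_z₀]

theorem exists_ιT_eq (y' : ↥(pullback f p)) (h1 : pullback.fst f p y' = y)
    (h2 : pullback.snd f p y' = x') : ∃ n, ιT f p y x' h n = y' := by
  have hy' : y' ∈ Set.range ((pullback.fst f p).fiberι y) := by
    rw [Scheme.Hom.range_fiberι]
    exact h1
  obtain ⟨yt, rfl⟩ := hy'
  have hz : pullback.fst (gZ f p y) _ ((Ψ f p y).hom yt) = z₀ f p y x' h := by
    apply (p.fiberι (f y)).isEmbedding.injective
    rw [fiberι_z₀, ← h2]
    have h3 := congrArg (fun φ : _ ⟶ X' => φ ((Ψ f p y).hom yt)) (Ψ_inv_snd f p y)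
    simp only [Scheme.Hom.comp_apply] at h3
    rw [← h3]
    have h4 : (Ψ f p y).inv ((Ψ f p y).hom yt) = yt := by
      rw [← Scheme.Hom.comp_apply, Iso.hom_inv_id]
      rfl
    rw [h4]
  obtain ⟨n, hn⟩ := exists_τ_eq (gZ f p y) (z₀ f p y x' h) (hψ f p y x' h) (Y.residueField y) _ hz
  refine ⟨n, ?_⟩
  unfold ιT
  simp only [Scheme.Hom.comp_apply]
  rw [hn]
  have h4 : (Ψ f p y).inv ((Ψ f p y).hom yt) = yt := by
    rw [← Scheme.Hom.comp_apply, Iso.hom_inv_id]
    rfl
  rw [h4]

end B

end Groth.Agent.Lib.Helper19.Cyc1941GEO
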