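import Mathlib
import Groth.Prelude.Def_ResDeg
import Groth.Agent.Lib.Helper19.Cyc1941.GeoB
import Groth.Agent.Lib.Helper14.Cyc1941GA
import Groth.Agent.Lib.Helper58.Cyc1941GB
import Groth.Agent.Lib.Helper95.Cyc1941GC
import Groth.Agent.Lib.Helper85.Cyc1941GD

/-!
# MULT-GEO part C: lengths and degrees (helper19)
-/

set_option autoImplicit false
set_option linter.style.haveILetI false
universe u
open CategoryTheory CategoryTheory.Limits AlgebraicGeometry TensorProduct

namespace Groth.Agent.Lib.Helper19.Cyc1941GEO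

open Groth.Agent.Lib.Helper51 Groth.Agent.Lib.Helper67 Groth.Agent.Lib.Helper85
  Groth.Agent.Lib.Helper14 Groth.Agent.Lib.Helper58 Groth.Agent.Lib.Helper95

theorem length_of_equiv_Q {X' X : Scheme.{u}} (p : X' ⟶ X) (R : Type u) [CommRing R]
    (x'' x' : X') (hx : x'' = x') (e : R ≃+* FiberStalk.Q p x'') :
    Module.length R R = Module.length (X'.presheaf.stalk x') (FiberStalk.Q p x') := by
  subst hx
  rw [Cyc1941GD.length_quotient_self]
  exact Cyc1941GD.length_self_of_ringEquiv e

section C

variable {X X' Y : Scheme.{u}} (f : Y ⟶ X) (p : X' ⟶ X) (y : Y) (x' : X') (h : f y = p x')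

/-- P4: the length of the fibre ring at `ιT n`. -/
theorem length_Q_ιT (n : PrimeSpectrum (TT f p y x' h)) :
    Module.length ((pullback f p).presheaf.stalk (ιT f p y x' h n))
      (FiberStalk.Q (pullback.fst f p) (ιT f p y x' h n)) =
    Module.length (Localization.AtPrime n.asIdeal) (Localization.AtPrime n.asIdeal) := by
  have hι : (pullback.fst f p).fiberι y ((Ψ f p y).inv
      (τ (gZ f p y) (z₀ f p y x' h) (hψ f p y x' h) (Y.residueField y) n)) =
      ιT f p y x' h n := by
    unfold ιT
    simp only [Scheme.Hom.comp_apply]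
  obtain ⟨e1⟩ := Cyc1941GD.nonempty_stalk_fiber_ringEquiv (pullback.fst f p) y ((Ψ f p y).inv
      (τ (gZ f p y) (z₀ f p y x' h) (hψ f p y x' h) (Y.residueField y) n))
  have e2 : ((pullback.fst f p).fiber y).presheaf.stalk ((Ψ f p y).inv
      (τ (gZ f p y) (z₀ f p y x' h) (hψ f p y x' h) (Y.residueField y) n)) ≃+*
      (pullback (gZ f p y) (Spec.map (CommRingCat.ofHom (algebraMap (X.residueField (f y))
      (Y.residueField y))))).presheaf.stalk
        (τ (gZ f p y) (z₀ f p y x' h) (hψ f p y x' h) (Y.residueField y) n) :=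
    (asIso ((Ψ f p y).inv.stalkMap
      (τ (gZ f p y) (z₀ f p y x' h) (hψ f p y x' h) (Y.residueField y) n))).commRingCatIsoToRingEquiv
  obtain ⟨e3⟩ := nonempty_stalk_ringEquiv (gZ f p y) (z₀ f p y x' h) (hψ f p y x' h)
    (Y.residueField y) n
  rw [← length_of_equiv_Q (pullback.fst f p) _ _ _ hι e1]
  exact Cyc1941GD.length_self_of_ringEquiv (e2.trans e3)

/-- P5: the residue degree of `snd` at `ιT n`. -/
theorem residueDegree_snd_ιT [Module.Finite (X.residueField (f y)) (Y.residueField y)]
    (n : PrimeSpectrum (TT f p y x' h)) (hn : n.asIdeal.IsMaximal) :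
    EGA4loc.residueDegree (pullback.snd f p) (ιT f p y x' h n) =
      (Module.length (AA f p y x' h) (TT f p y x' h ⧸ n.asIdeal)).toNat := by
  rw [← Cyc1941GC.residueDegree_specMap_eq n hn]
  exact Cyc1941GB.residueDegree_eq_of_comm (pullback.snd f p)
    (Spec.map (CommRingCat.ofHom (algebraMap (AA f p y x' h) (TT f p y x' h))))
    (ιT f p y x' h) ((ZZ f p y).fromSpecStalk (z₀ f p y x' h) ≫ p.fiberι (f y))
    (ιT_snd f p y x' h) n
    (Cyc1941GA.bijective_residueFieldMap_of_isPreimmersion _ _)
    (Cyc1941GA.bijective_residueFieldMap_of_isPreimmersion _ _)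

/-- P6. -/
theorem length_AA :
    Module.length (AA f p y x' h) (AA f p y x' h) =
      Module.length (X'.presheaf.stalk x') (FiberStalk.Q p x') := by
  obtain ⟨e1⟩ := Cyc1941GD.nonempty_stalk_fiber_ringEquiv p (f y) (z₀ f p y x' h)
  exact length_of_equiv_Q p _ _ _ (fiberι_z₀ f p y x' h) e1

/-- P7. -/
theorem finrank_TT [Module.Finite (X.residueField (f y)) (Y.residueField y)] :
    Module.finrank (AA f p y x' h) (TT f p y x' h) = EGA4loc.residueDegree f y := by
  unfold EGA4loc.residueDegree
  exact Module.finrank_baseChange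

end C

end Groth.Agent.Lib.Helper19.Cyc1941GEO
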